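import Cfsg.Agent.H844.TC.BMain

/-!
# Row B of S2464 (helper844)

`tc6_B` : the Baby Monster, two classes of elements of order 23.
-/

set_option autoImplicit false

namespace Cfsg.Agent.H844.TC.BSix

universe u

open Cfsg Cfsg.Agent

/-- **Row B of S2464** -/
theorem tc6_B {S : Type u} [Group S] (h : Spor.IsoB S) : ∃ x y : S, Nat.Coprime (orderOf x) 6 ∧
    Nat.Coprime (orderOf y) 6 ∧ ∀ g : S, g ≠ 1 → ∃ u v : S, g = (u * x * u⁻¹) * (v * y * v⁻¹) := by
  have hN := NotCT.Orders.b h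
  have hf : Finite S := Nat.finite_of_card_ne_zero (by rw [hN]; norm_num)
  have : Fact (Nat.Prime 23) := ⟨by norm_num⟩
  obtain ⟨x, hx⟩ := exists_prime_orderOf_dvd_card' (G := S) 23 (by rw [hN]; norm_num)
  refine ⟨x, x⁻¹, ?_, ?_, BRow.tc_x H844.Ore.BMain.sThree h hx⟩
  · rw [hx]; decide
  · rw [orderOf_inv, hx]; decide

end Cfsg.Agent.H844.TC.BSix
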