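import Cfsg.Agent.H844.Ore.BFrame
import Cfsg.Agent.H773.PwB.FiTwo
import Cfsg.Agent.H903.TC.Baby
import Cfsg.Agent.H903.TC.BabyFix
import Cfsg.Agent.H903.Ore.BabyTwoB
import Cfsg.Agent.H328.TC.BThreeFin
import Cfsg.Agent.H140.TC.Fam

/-!
# Row B of S4173 (and S2464): assembly (helper844)

`frame` : every element of the Baby Monster is a product `a c a⁻¹ c⁻¹`, `a` of order 23, given
* `hT` : this for `g ≠ 1` with `|C(g)| ≤ K`, `806215680 ≤ K`,
* `h5` : `|C(y)| ≤ K` for `y` of prime order at least five,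
* `hO` : this for the elements of `Co2`.
-/

set_option autoImplicit false

universe u

namespace Cfsg.Agent.H844.TC.BFrame

open Cfsg Cfsg.Agent Cfsg.Agent.H844.Ore Cfsg.Agent.H844.Ore.BFrame Cfsg.Agent.H903.TC
open Subgroup (centralizer mem_centralizer_singleton_iff center)

variable {L : Type u} [Group L]

/-- `g` a `{2, 3}`-element, `g ^ (orderOf g / 3)` of type 3A: `g` commutes with a 2B involution -/
theorem fi_comm {g : L} (h0 : 0 < orderOf g) (a b : ℕ) (ho : orderOf g = 2 ^ a * 3 ^ b)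
    (hs : FiB (g ^ (orderOf g / 3))) : ∃ w : L, TwoB w ∧ g * w = w * g := by
  obtain ⟨s, hs'⟩ : ∃ s, s = g ^ (orderOf g / 3) := ⟨_, rfl⟩
  rw [← hs'] at hs
  have hos := fi_order hs
  -- `b = 1`
  have hb : b = 1 := by
    rcases b with _ | _ | b
    · exfalso
      rw [pow_zero, mul_one] at ho
      have h1 : s ^ 2 ^ a = 1 := by rw [hs', ← pow_mul, mul_comm, pow_mul, ← ho, pow_orderOf_eq_one, one_pow]
      have h2 := orderOf_dvd_of_pow_eq_one h1
      rw [hos] at h2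
      have := Nat.prime_three.dvd_of_dvd_pow h2
      revert this
      decide
    · rfl
    · exfalso
      refine fi_no_cube hs (g ^ (2 ^ a * 3 ^ b)) ?_
      rw [hs', ← pow_mul, ho]
      congr 1
      have : 2 ^ a * 3 ^ (b + 1 + 1) = 3 * (2 ^ a * 3 ^ b * 3) := by ring
      rw [this, Nat.mul_div_cancel_left _ (by norm_num : 0 < 3)]
  subst hb
  rw [pow_one] at ho
  have hs2 : s = g ^ 2 ^ a := by
    rw [hs', ho, Nat.mul_div_cancel _ (by norm_num : 0 < 3)]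
  have hcop : Nat.Coprime (2 ^ a) 3 := Nat.Coprime.pow_left _ (by norm_num)
  have hbez : ((2 ^ a : ℕ) : ℤ) * Nat.gcdA (2 ^ a) 3 + ((3 : ℕ) : ℤ) * Nat.gcdB (2 ^ a) 3 = 1 := by
    have := Nat.gcd_eq_gcd_ab (2 ^ a) 3
    rw [hcop] at this
    exact_mod_cast this.symm
  set m := Nat.gcdA (2 ^ a) 3 with hm
  set n := Nat.gcdB (2 ^ a) 3 with hn
  have hg : g = (g ^ 3) ^ n * s ^ m := by
    have e1 : s ^ m = g ^ (((2 ^ a : ℕ) : ℤ) * m) := by rw [hs2, ← zpow_natCast, ← zpow_mul]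
    have e2 : (g ^ 3) ^ n = g ^ (((3 : ℕ) : ℤ) * n) := by rw [← zpow_natCast, ← zpow_mul]
    rw [e1, e2, ← zpow_add, add_comm, hbez, zpow_one]
  obtain ⟨w, hw, hws, hwt⟩ := H773.PwB.exists_two hs (t := g ^ 3) (n := a)
    (by rw [← pow_mul, mul_comm, ← ho, pow_orderOf_eq_one])
    (by rw [hs2]; exact ((Commute.refl g).pow_left _).pow_right _)
  refine ⟨w, hw, ?_⟩
  have h1 : Commute w g := by
    rw [hg]
    exact ((show Commute w (g ^ 3) from hwt).zpow_right n).mul_right ((show Commute w s from hws).zpow_right m)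
  exact h1.symm.eq

/-- the elements commuting with a 2B involution -/
theorem two_comm (h3 : Cfsg.Agent.H715.Mon.Grp.SThree.{0}) (h : Spor.IsoB L) (hO : C23) {w : L} (hw : TwoB w) {g : L}
    (hg : g * w = w * g) : CC 23 g := by
  have hfin : Finite L := Nat.finite_of_card_ne_zero (by rw [NotCT.Orders.b h]; norm_num)
  refine H903.Ore.BabyTwoB.of_cent h3 h (P := fun g => CC 23 g) ?_ ?_ hw hg
  · rintro g x ⟨a, c, ha, hx⟩
    refine ⟨g * a * g⁻¹, g * c * g⁻¹, ?_, ?_⟩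
    · rw [← ha]
      exact MulEquiv.orderOf_eq (MulAut.conj g) a
    · rw [hx]
      group
  · obtain ⟨z, hz, hc, hP⟩ := cent_B h hO
    refine ⟨z, hz, ?_, fun g hg => hP g 1 ?_⟩
    · rw [hc]
      norm_num
    · rw [one_mul, inv_one, mul_one]
      exact hg

/-- **Row B** -/
theorem frame (h3 : Cfsg.Agent.H715.Mon.Grp.SThree.{0}) (h : Spor.IsoB L) (hO : C23) {K : ℕ} (hK : 806215680 ≤ K)
    (hT : ∀ g : L, g ≠ 1 → Nat.card ↥(centralizer ({g} : Set L)) ≤ K → CC 23 g)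
    (h5 : ∀ y : L, (orderOf y).Prime → 5 ≤ orderOf y → Nat.card ↥(centralizer ({y} : Set L)) ≤ K) :
    ∀ g : L, g ≠ 1 → CC 23 g := by
  have hfin : Finite L := Nat.finite_of_card_ne_zero (by rw [NotCT.Orders.b h]; norm_num)
  intro g hg1
  have h0 : orderOf g ≠ 0 := (orderOf_pos g).ne'
  by_cases hp : ∃ p, p.Prime ∧ p ∣ orderOf g ∧ 5 ≤ p
  · obtain ⟨p, hp, hpg, hp5⟩ := hp
    have ho : orderOf (g ^ (orderOf g / p)) = p := orderOf_pow_orderOf_div h0 hpg
    exact hT g hg1 ((card_cent_le_pow g _).trans (h5 _ (by rw [ho]; exact hp) (by rw [ho]; exact hp5)))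
  push Not at hp
  obtain ⟨a, b, hab⟩ := exists_two_three h0 hp
  rcases Nat.eq_zero_or_pos a with rfl | ha
  · rw [pow_zero, one_mul] at hab
    exact H328.TC.BThree.three_B_all h (k := b) (by rw [← hab, pow_orderOf_eq_one]) hg1
  rcases Nat.eq_zero_or_pos b with rfl | hb
  · rw [pow_zero, mul_one] at hab
    exact two_B h hO ⟨a, hab⟩
  have h6 : 6 ∣ orderOf g := by
    rw [hab, show (6 : ℕ) = 2 * 3 from rfl]
    exact mul_dvd_mul (dvd_pow_self 2 ha.ne') (dvd_pow_self 3 hb.ne')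
  rcases BThree.cent_six h h6 with h1 | h1
  · exact hT g hg1 (h1.trans hK)
  · obtain ⟨w, hw, hgw⟩ := fi_comm (orderOf_pos g) a b hab h1
    exact two_comm h3 h hO hw hgw

/-- **Row B**, two classes -/
theorem tc [IsSimpleGroup L] (h3 : Cfsg.Agent.H715.Mon.Grp.SThree.{0}) (h : Spor.IsoB L) (hO : C23) {K : ℕ}
    (hK : 806215680 ≤ K)
    (hT : ∀ g : L, g ≠ 1 → Nat.card ↥(centralizer ({g} : Set L)) ≤ K → CC 23 g)
    (h5 : ∀ y : L, (orderOf y).Prime → 5 ≤ orderOf y → Nat.card ↥(centralizer ({y} : Set L)) ≤ K) {x : L}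
    (hx : orderOf x = 23) : ∀ g : L, g ≠ 1 → ∃ u v : L, g = (u * x * u⁻¹) * (v * x⁻¹ * v⁻¹) :=
  fun g hg => fixed_B h3 h hx (frame h3 h hO hK hT h5 g hg)

end Cfsg.Agent.H844.TC.BFrame
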